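import Groth.Agent.GrpLim.Group

/-!
Normality and centrality of a base change as equations or factorisations.
-/

set_option autoImplicit false
set_option backward.isDefEq.respectTransparency false
universe u

open CategoryTheory Limits MonoidalCategory CartesianMonoidalCategory MonObj AlgebraicGeometry

noncomputable section

namespace Groth.GrpLim

variable {S S' : Scheme.{u}} (p : S' ⟶ S) {H G : Over S} [GrpObj G]

/-- The conjugation map `(g, h) ↦ g u(h) g⁻¹`. -/
def conjMap (u : H ⟶ G) : G ⊗ H ⟶ G := fst G H * (snd G H ≫ u) * (fst G H)⁻¹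

theorem map_conjMap (u : H ⟶ G) :
    ((Over.pullback p).map (conjMap u) : _ ⟶ Red.bc p G) =
      ((Over.pullback p).map (fst G H) : _ ⟶ Red.bc p G) *
        ((Over.pullback p).map (snd G H) ≫ (Over.pullback p).map u : _ ⟶ Red.bc p G) *
          ((Over.pullback p).map (fst G H) : _ ⟶ Red.bc p G)⁻¹ := by
  rw [conjMap, Functor.map_mul, Functor.map_mul, Functor.map_inv', Functor.map_comp]

theorem exists_point {T : Over S'} (g : T ⟶ Red.bc p G) (n : T ⟶ Red.bc p H) :
    ∃ w : T ⟶ Red.bc p (G ⊗ H), w ≫ (Over.pullback p).map (fst G H) = g ∧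
      w ≫ (Over.pullback p).map (snd G H) = n :=
  ⟨lift g n ≫ Functor.LaxMonoidal.μ (Over.pullback p) G H, by simp, by simp⟩

/-- Normality after base change is a factorisation. -/
theorem normal_map_iff (u : H ⟶ G) [GrpObj (Red.bc p H)] :
    AlgGrp.IsNormalHom ((Over.pullback p).map u) ↔
      ∃ v, v ≫ (Over.pullback p).map u = (Over.pullback p).map (conjMap u) := by
  rw [map_conjMap]
  constructor
  · intro h
    obtain ⟨v, hv⟩ := h _ ((Over.pullback p).map (fst G H)) ((Over.pullback p).map (snd G H))
    exact ⟨v, hv.symm⟩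
  · rintro ⟨v, hv⟩ T g n
    obtain ⟨w, hw₁, hw₂⟩ := exists_point p g n
    refine ⟨w ≫ v, ?_⟩
    rw [Category.assoc, hv, MonObj.comp_mul, MonObj.comp_mul, GrpObj.comp_inv, ← Category.assoc, hw₁, hw₂]

/-- Centrality after base change is an equation. -/
theorem central_map_iff (u : H ⟶ G) :
    (∀ (T : Over S') (g : T ⟶ Red.bc p G) (n : T ⟶ Red.bc p H),
        g * (n ≫ (Over.pullback p).map u) = (n ≫ (Over.pullback p).map u) * g) ↔
      (Over.pullback p).map (fst G H * (snd G H ≫ u)) = (Over.pullback p).map ((snd G H ≫ u) * fst G H) := by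
  rw [Functor.map_mul, Functor.map_mul, Functor.map_comp]
  constructor
  · intro h
    exact h _ ((Over.pullback p).map (fst G H)) ((Over.pullback p).map (snd G H))
  · intro h T g n
    obtain ⟨w, hw₁, hw₂⟩ := exists_point p g n
    have := congrArg (w ≫ ·) h
    simpa only [MonObj.comp_mul, ← Category.assoc, hw₁, hw₂] using this

end Groth.GrpLim
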