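import Groth.Agent.Abvar.BaseChange
import Groth.Agent.Limits.OpenPullback
import Groth.Agent.AlgGrp1.Basic
import Mathlib.AlgebraicGeometry.Morphisms.FinitePresentation
import Mathlib.AlgebraicGeometry.Morphisms.QuasiSeparated
import Mathlib.AlgebraicGeometry.AffineTransitionLimit

/-!
Morphisms between base changes of finitely presented schemes over a stage of a limit, stated in the
categories of schemes over the stages.
-/

set_option autoImplicit false
set_option backward.isDefEq.respectTransparency false
universe u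

open CategoryTheory Limits MonoidalCategory CartesianMonoidalCategory MonObj AlgebraicGeometry

noncomputable section

namespace Groth.GrpLim

variable {S₁ S₂ S₃ : Scheme.{u}}

theorem pullbackComp_hom_fst (a : S₁ ⟶ S₂) (b : S₂ ⟶ S₃) (Y : Over S₃) :
    ((Over.pullbackComp a b).hom.app Y).left ≫ pullback.fst (pullback.snd Y.hom b) a ≫
      pullback.fst Y.hom b = pullback.fst Y.hom (a ≫ b) := by
  have h := conjugateEquiv_counit (Over.mapPullbackAdj (a ≫ b))
    ((Over.mapPullbackAdj a).comp (Over.mapPullbackAdj b)) (Over.mapComp a b).inv Y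
  have h' := congrArg (fun m => m.left) h
  refine Eq.trans ?_ (h'.trans ?_)
  · simp [Over.pullbackComp, Over.mapPullbackAdj, Adjunction.comp_counit_app]
  · simp [Over.mapPullbackAdj, Over.mapComp]

theorem pullbackComp_inv_fst (a : S₁ ⟶ S₂) (b : S₂ ⟶ S₃) (Y : Over S₃) :
    ((Over.pullbackComp a b).inv.app Y).left ≫ pullback.fst Y.hom (a ≫ b) =
      pullback.fst (pullback.snd Y.hom b) a ≫ pullback.fst Y.hom b := by
  rw [← pullbackComp_hom_fst a b Y, ← Over.comp_left_assoc, Iso.inv_hom_id_app]
  exact Category.id_comp _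

theorem eqToHom_bc_fst {f g : S₁ ⟶ S₂} (h : f = g) (Y : Over S₂) :
    (eqToHom (congrArg (fun φ => Red.bc φ Y) h)).left ≫ pullback.fst Y.hom g = pullback.fst Y.hom f := by
  subst h
  exact Category.id_comp _

theorem map_fst (a : S₁ ⟶ S₂) {A B : Over S₂} (u : A ⟶ B) :
    ((Over.pullback a).map u).left ≫ pullback.fst B.hom a = pullback.fst A.hom a ≫ u.left :=
  pullback.lift_fst _ _ _

/-- A morphism into a base change is determined by its projection. -/
theorem bc_hom_ext {a : S₁ ⟶ S₂} {B : Over S₂} {T : Over S₁} {x y : T ⟶ Red.bc a B}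
    (h : x.left ≫ pullback.fst B.hom a = y.left ≫ pullback.fst B.hom a) : x = y := by
  refine Over.OverMorphism.ext (pullback.hom_ext h ?_)
  exact (Over.w x).trans (Over.w y).symm

variable {I : Type u} [SmallCategory I] [IsCofiltered I] (D : I ⥤ Scheme.{u})
  [∀ (i i' : I) (f : i ⟶ i'), IsAffineHom (D.map f)] (c : Cone D) (hc : IsLimit c)
  [∀ i, CompactSpace (D.obj i)] [∀ i, QuasiSeparatedSpace (D.obj i)]

/-- The structure maps of the base changed system. -/
def toStage (j : I) (A : Over (D.obj j)) :
    Groth.Limits.pullbackDiagram D j A.hom ⟶ (Functor.const (Over j)).obj (D.obj j) where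
  app k := pullback.fst (D.map k.hom) A.hom ≫ D.map k.hom
  naturality k l ψ := by
    have h : (Groth.Limits.pullbackDiagram D j A.hom).map ψ ≫ pullback.fst (D.map l.hom) A.hom =
        pullback.fst (D.map k.hom) A.hom ≫ D.map ψ.left := pullback.lift_fst _ _ _
    change (Groth.Limits.pullbackDiagram D j A.hom).map ψ ≫
      pullback.fst (D.map l.hom) A.hom ≫ D.map l.hom = _ ≫ 𝟙 _
    rw [Category.comp_id, ← Category.assoc]
    refine (congrArg (· ≫ D.map l.hom) h).trans ?_
    rw [Category.assoc, ← D.map_comp, Over.w]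

omit [∀ i, QuasiSeparatedSpace (D.obj i)] in
theorem compactSpace_diagram (j : I) (A : Over (D.obj j)) [QuasiCompact A.hom] (k : Over j) :
    CompactSpace ((Groth.Limits.pullbackDiagram D j A.hom).obj k) :=
  have : CompactSpace A.left := QuasiCompact.compactSpace_of_compactSpace A.hom
  QuasiCompact.compactSpace_of_compactSpace (pullback.snd (D.map k.hom) A.hom)

omit [∀ i, CompactSpace (D.obj i)] in
theorem quasiSeparatedSpace_diagram (j : I) (A : Over (D.obj j)) [QuasiSeparated A.hom] (k : Over j) :
    QuasiSeparatedSpace ((Groth.Limits.pullbackDiagram D j A.hom).obj k) :=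
  have : QuasiSeparatedSpace A.left := quasiSeparatedSpace_of_quasiSeparated A.hom
  quasiSeparatedSpace_of_quasiSeparated (pullback.snd (D.map k.hom) A.hom)

include hc in
/-- Morphisms equal at the limit are equal at some stage. -/
theorem exists_map_eq {i : I} {A B : Over (D.obj i)} [QuasiCompact A.hom] [QuasiSeparated A.hom]
    [LocallyOfFiniteType B.hom] (u v : A ⟶ B)
    (h : (Over.pullback (c.π.app i)).map u = (Over.pullback (c.π.app i)).map v) :
    ∃ (i' : I) (g : i' ⟶ i), (Over.pullback (D.map g)).map u = (Over.pullback (D.map g)).map v := by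
  have := compactSpace_diagram D i A
  have := quasiSeparatedSpace_diagram D i A
  have e0 : pullback.fst A.hom (c.π.app i) ≫ u.left = pullback.fst A.hom (c.π.app i) ≫ v.left := by
    rw [← map_fst, ← map_fst, h]
  let p₀ : (Groth.Limits.pullbackDiagram D i A.hom).obj (Over.mk (𝟙 i)) ⟶ A.left :=
    pullback.snd (D.map (𝟙 i)) A.hom
  have ht : ∀ w : A ⟶ B, (toStage D i A).app (Over.mk (𝟙 i)) = (p₀ ≫ w.left) ≫ B.hom := fun w => by
    rw [Category.assoc, Over.w w]
    exact pullback.condition
  have hπ : (Groth.Limits.pullbackCone D i A.hom c).π.app (Over.mk (𝟙 i)) ≫ p₀ =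
      (pullbackSymmetry _ _).hom ≫ pullback.fst A.hom (c.π.app i) := by
    rw [pullbackSymmetry_hom_comp_fst]
    exact pullback.lift_snd _ _ _
  obtain ⟨k, hik, hk⟩ := Scheme.exists_hom_comp_eq_comp_of_locallyOfFiniteType
    (Groth.Limits.pullbackDiagram D i A.hom) (toStage D i A) B.hom
    (Groth.Limits.pullbackCone D i A.hom c) (Groth.Limits.isLimitPullbackCone D i A.hom hc)
    (p₀ ≫ u.left) (p₀ ≫ v.left) (ht u) (ht v) (by
      rw [reassoc_of% hπ, reassoc_of% hπ, e0])
  obtain rfl : hik = Over.homMk k.hom := by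
    ext
    exact (Category.comp_id _).symm.trans (Over.w hik)
  rw [← Category.assoc, ← Category.assoc] at hk
  have hp : (Groth.Limits.pullbackDiagram D i A.hom).map (Over.homMk k.hom : k ⟶ Over.mk (𝟙 i)) ≫ p₀ =
      pullback.snd (D.map k.hom) A.hom := Groth.Limits.pullbackDiagram_map_π D i A.hom k
  rw [hp] at hk
  refine ⟨k.left, k.hom, bc_hom_ext ?_⟩
  rw [map_fst, map_fst, ← cancel_epi (pullbackSymmetry (D.map k.hom) A.hom).hom,
    reassoc_of% (pullbackSymmetry_hom_comp_fst (D.map k.hom) A.hom)]
  simpa using hk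

include hc in
/-- Morphisms at the limit come from a stage. -/
theorem exists_hom_stage {j : I} {A B : Over (D.obj j)} [QuasiCompact A.hom] [QuasiSeparated A.hom]
    [LocallyOfFinitePresentation B.hom]
    (u : Red.bc (c.π.app j) A ⟶ Red.bc (c.π.app j) B) :
    ∃ (i : I) (f : i ⟶ j) (ui : Red.bc (D.map f) A ⟶ Red.bc (D.map f) B),
      (Over.pullback (c.π.app i)).map ui =
        (((Over.pullbackComp (c.π.app i) (D.map f)).app A).symm ≪≫
            eqToIso (congrArg (fun g => Red.bc g A) (c.w f))).hom ≫ u ≫
          (((Over.pullbackComp (c.π.app i) (D.map f)).app B).symm ≪≫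
            eqToIso (congrArg (fun g => Red.bc g B) (c.w f))).inv := by
  have := compactSpace_diagram D j A
  have := quasiSeparatedSpace_diagram D j A
  let a : (Groth.Limits.pullbackCone D j A.hom c).pt ⟶ B.left :=
    (pullbackSymmetry _ _).hom ≫ u.left ≫ pullback.fst B.hom (c.π.app j)
  have ha : (Groth.Limits.pullbackCone D j A.hom c).π ≫ toStage D j A =
      (Functor.const (Over j)).map (a ≫ B.hom) := by
    ext k : 2
    change (Groth.Limits.pullbackCone D j A.hom c).π.app k ≫
      pullback.fst (D.map k.hom) A.hom ≫ D.map k.hom = a ≫ B.hom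
    have hπfst : (Groth.Limits.pullbackCone D j A.hom c).π.app k ≫ pullback.fst (D.map k.hom) A.hom =
        pullback.fst (c.π.app j) A.hom ≫ c.π.app k.left := pullback.lift_fst _ _ _
    rw [← Category.assoc]
    refine (congrArg (· ≫ D.map k.hom) hπfst).trans ?_
    have hu : u.left ≫ pullback.snd B.hom (c.π.app j) = pullback.snd A.hom (c.π.app j) := Over.w u
    rw [Category.assoc, c.w]
    symm
    show ((pullbackSymmetry (c.π.app j) A.hom).hom ≫ u.left ≫ pullback.fst B.hom (c.π.app j)) ≫ B.hom = _
    rw [Category.assoc, Category.assoc, pullback.condition, reassoc_of% hu]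
    exact pullbackSymmetry_hom_comp_snd_assoc (c.π.app j) A.hom (c.π.app j)
  obtain ⟨k, g, hg, hg'⟩ := Scheme.exists_π_app_comp_eq_of_locallyOfFinitePresentation
    (Groth.Limits.pullbackDiagram D j A.hom) (toStage D j A) B.hom
    (Groth.Limits.pullbackCone D j A.hom c) (Groth.Limits.isLimitPullbackCone D j A.hom hc) a ha
  change g ≫ B.hom = pullback.fst (D.map k.hom) A.hom ≫ D.map k.hom at hg'
  let ui : Red.bc (D.map k.hom) A ⟶ Red.bc (D.map k.hom) B :=
    Over.homMk (pullback.lift ((pullbackSymmetry _ _).hom ≫ g) (pullback.snd A.hom (D.map k.hom))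
      (by rw [Category.assoc, hg', pullbackSymmetry_hom_comp_fst_assoc]))
      (pullback.lift_snd _ _ _)
  refine ⟨k.left, k.hom, ui, ?_⟩
  set e := ((Over.pullbackComp (c.π.app k.left) (D.map k.hom)).app A).symm ≪≫
    eqToIso (congrArg (fun g => Red.bc g A) (c.w k.hom)) with he
  set e' := ((Over.pullbackComp (c.π.app k.left) (D.map k.hom)).app B).symm ≪≫
    eqToIso (congrArg (fun g => Red.bc g B) (c.w k.hom)) with he'
  have hB : e'.inv.left ≫ pullback.fst (pullback.snd B.hom (D.map k.hom)) (c.π.app k.left) ≫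
      pullback.fst B.hom (D.map k.hom) = pullback.fst B.hom (c.π.app j) := by
    have : e'.inv = eqToHom (congrArg (fun g => Red.bc g B) (c.w k.hom).symm) ≫
        (Over.pullbackComp (c.π.app k.left) (D.map k.hom)).hom.app B := rfl
    rw [this, Over.comp_left, Category.assoc, pullbackComp_hom_fst, eqToHom_bc_fst (c.w k.hom).symm B]
  have hA : e.hom.left ≫ pullback.fst A.hom (c.π.app j) =
      pullback.fst (pullback.snd A.hom (D.map k.hom)) (c.π.app k.left) ≫ pullback.fst A.hom (D.map k.hom) := by
    have : e.hom = (Over.pullbackComp (c.π.app k.left) (D.map k.hom)).inv.app A ≫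
        eqToHom (congrArg (fun g => Red.bc g A) (c.w k.hom)) := rfl
    rw [this, Over.comp_left, Category.assoc, eqToHom_bc_fst (c.w k.hom) A, pullbackComp_inv_fst]
  apply bc_hom_ext
  rw [map_fst]
  apply pullback.hom_ext
  · have e1 : ui.left ≫ pullback.fst B.hom (D.map k.hom) =
        (pullbackSymmetry _ _).hom ≫ g := pullback.lift_fst _ _ _
    have key : pullback.fst (pullback.snd A.hom (D.map k.hom)) (c.π.app k.left) ≫
          (pullbackSymmetry _ _).hom =
        e.hom.left ≫ (pullbackSymmetry _ _).hom ≫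
          (Groth.Limits.pullbackCone D j A.hom c).π.app k := by
      apply pullback.hom_ext
      · rw [Category.assoc, pullbackSymmetry_hom_comp_fst, pullback.condition]
        simp only [Category.assoc]
        rw [show (Groth.Limits.pullbackCone D j A.hom c).π.app k ≫ pullback.fst (D.map k.hom) A.hom =
          pullback.fst (c.π.app j) A.hom ≫ c.π.app k.left from pullback.lift_fst _ _ _,
          pullbackSymmetry_hom_comp_fst_assoc, ← Category.assoc e.hom.left]
        exact congrArg (· ≫ c.π.app k.left) (Over.w e.hom).symm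
      · rw [Category.assoc, pullbackSymmetry_hom_comp_snd]
        simp only [Category.assoc]
        rw [show (Groth.Limits.pullbackCone D j A.hom c).π.app k ≫ pullback.snd (D.map k.hom) A.hom =
          pullback.snd (c.π.app j) A.hom from pullback.lift_snd _ _ _,
          pullbackSymmetry_hom_comp_snd, hA]
    show (pullback.fst (pullback.snd A.hom (D.map k.hom)) (c.π.app k.left) ≫ ui.left) ≫ pullback.fst B.hom (D.map k.hom) =
      ((e.hom.left ≫ u.left ≫ e'.inv.left) ≫ pullback.fst (pullback.snd B.hom (D.map k.hom)) (c.π.app k.left)) ≫ pullback.fst B.hom (D.map k.hom)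
    simp only [Category.assoc]
    rw [e1, hB]
    refine (Category.assoc _ _ _).symm.trans ((congrArg (· ≫ g) key).trans ?_)
    rw [Category.assoc, Category.assoc]
    refine (congrArg (fun w => e.hom.left ≫ (pullbackSymmetry A.hom (c.π.app j)).hom ≫ w) hg).trans ?_
    show e.hom.left ≫ (pullbackSymmetry A.hom (c.π.app j)).hom ≫ (pullbackSymmetry (c.π.app j) A.hom).hom ≫ u.left ≫ _ = _
    congr 1
    have hs : (pullbackSymmetry A.hom (c.π.app j)).hom ≫ (pullbackSymmetry (c.π.app j) A.hom).hom = 𝟙 _ := by
      apply pullback.hom_ext <;> simp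
    exact (Category.assoc _ _ _).symm.trans ((congrArg (· ≫ _) hs).trans (Category.id_comp _))
  · have e2 : ui.left ≫ pullback.snd B.hom (D.map k.hom) = pullback.snd A.hom (D.map k.hom) :=
      pullback.lift_snd _ _ _
    have w : (e.hom.left ≫ u.left ≫ e'.inv.left) ≫ pullback.snd (pullback.snd B.hom (D.map k.hom)) (c.π.app k.left) =
        pullback.snd (pullback.snd A.hom (D.map k.hom)) (c.π.app k.left) := Over.w (e.hom ≫ u ≫ e'.inv)
    show (pullback.fst (pullback.snd A.hom (D.map k.hom)) (c.π.app k.left) ≫ ui.left) ≫ pullback.snd B.hom (D.map k.hom) =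
      ((e.hom.left ≫ u.left ≫ e'.inv.left) ≫ pullback.fst (pullback.snd B.hom (D.map k.hom)) (c.π.app k.left)) ≫ pullback.snd B.hom (D.map k.hom)
    rw [Category.assoc, e2, Category.assoc (e.hom.left ≫ u.left ≫ e'.inv.left), pullback.condition, pullback.condition,
      ← Category.assoc (e.hom.left ≫ u.left ≫ e'.inv.left), w]

end Groth.GrpLim
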