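import Groth.Agent.GrpLim.Descend
import Groth.Agent.Reductive.SubgroupObj

/-!
Descent to a stage of a limit of: equalities, factorisations through a morphism, monomorphisms and
homomorphisms, for finitely presented schemes over a stage.
-/

set_option autoImplicit false
set_option backward.isDefEq.respectTransparency false
universe u

open CategoryTheory Limits MonoidalCategory CartesianMonoidalCategory MonObj AlgebraicGeometry

noncomputable section

namespace Groth.GrpLim

section Cmp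

variable {S₀ S₁ S₂ S₃ : Scheme.{u}}

/-- The comparison of an iterated base change with the base change along a composite. -/
def cmp {a : S₁ ⟶ S₂} {b : S₂ ⟶ S₃} {ab : S₁ ⟶ S₃} (h : a ≫ b = ab) :
    Over.pullback b ⋙ Over.pullback a ≅ Over.pullback ab :=
  (Over.pullbackComp a b).symm ≪≫ eqToIso (by subst h; rfl)

theorem cmp_fst {a : S₁ ⟶ S₂} {b : S₂ ⟶ S₃} {ab : S₁ ⟶ S₃} (h : a ≫ b = ab) (Y : Over S₃) :
    ((cmp h).hom.app Y).left ≫ pullback.fst Y.hom ab =
      pullback.fst (pullback.snd Y.hom b) a ≫ pullback.fst Y.hom b := by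
  subst h
  rw [← pullbackComp_inv_fst a b Y]
  simp [cmp]

theorem cmp_app_eq {a : S₁ ⟶ S₂} {b : S₂ ⟶ S₃} {ab : S₁ ⟶ S₃} (h : a ≫ b = ab) (Y : Over S₃) :
    ((Over.pullbackComp a b).app Y).symm ≪≫ eqToIso (congrArg (fun g => Red.bc g Y) h) = (cmp h).app Y := by
  subst h
  ext1
  simp [cmp]

theorem isMonHom_cmp {a : S₁ ⟶ S₂} {b : S₂ ⟶ S₃} {ab : S₁ ⟶ S₃} (h : a ≫ b = ab) (A : Over S₃) [GrpObj A] :
    IsMonHom (M := Red.bc a (Red.bc b A)) (N := Red.bc ab A) ((cmp h).hom.app A) ∧
      IsMonHom (M := Red.bc ab A) (N := Red.bc a (Red.bc b A)) ((cmp h).inv.app A) :=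
  Groth.Abvar.isMonHom_comp_iso (Over.pullback b) (Over.pullback a) (Over.pullback ab) (cmp h) A

theorem cmp_assoc {x : S₀ ⟶ S₁} {y : S₁ ⟶ S₂} {z : S₂ ⟶ S₃} {xy : S₀ ⟶ S₂} {yz : S₁ ⟶ S₃} {w : S₀ ⟶ S₃}
    (h₁ : x ≫ y = xy) (h₂ : y ≫ z = yz) (h₃ : xy ≫ z = w) (h₄ : x ≫ yz = w) (Y : Over S₃) :
    (Over.pullback x).map ((cmp h₂).hom.app Y) ≫ (cmp h₄).hom.app Y =
      (cmp h₁).hom.app ((Over.pullback z).obj Y) ≫ (cmp h₃).hom.app Y := by
  apply bc_hom_ext
  rw [Over.comp_left, Over.comp_left, Category.assoc, Category.assoc, cmp_fst, cmp_fst,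
    ← Category.assoc, ← Category.assoc]
  show (((Over.pullback x).map ((cmp h₂).hom.app Y)).left ≫ pullback.fst (Red.bc yz Y).hom x) ≫ pullback.fst Y.hom yz = _
  rw [map_fst, Category.assoc, cmp_fst]
  show _ = (((cmp h₁).hom.app (Red.bc z Y)).left ≫ pullback.fst (Red.bc z Y).hom xy) ≫ pullback.fst Y.hom z
  rw [cmp_fst]
  exact (Category.assoc _ _ _).symm

end Cmp

section Monoidal

variable {S S' : Scheme.{u}} (p : S' ⟶ S)

theorem mono_map_iff {H G : Over S} (u : H ⟶ G) :
    Mono ((Over.pullback p).map u) ↔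
      (Over.pullback p).map (pullback.fst u u) = (Over.pullback p).map (pullback.snd u u) := by
  constructor
  · intro _
    rw [← cancel_mono ((Over.pullback p).map u), ← Functor.map_comp, ← Functor.map_comp, pullback.condition]
  · intro h
    refine ⟨fun a b hab => ?_⟩
    obtain ⟨l, hla, hlb⟩ := ((IsPullback.of_hasPullback u u).map (Over.pullback p)).exists_lift a b hab
    rw [← hla, ← hlb, h]

variable {A B : Over S} [GrpObj A] [GrpObj B]

/-- The product of the two projections maps to the multiplication. -/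
theorem μ_map_mul (f : A ⟶ B) :
    Functor.LaxMonoidal.μ (Over.pullback p) A A ≫ (Over.pullback p).map ((fst A A ≫ f) * (snd A A ≫ f)) =
      ((fst (Red.bc p A) (Red.bc p A) ≫ (Over.pullback p).map f) *
        (snd (Red.bc p A) (Red.bc p A) ≫ (Over.pullback p).map f) : _ ⟶ Red.bc p B) := by
  rw [Functor.map_mul, MonObj.comp_mul]
  simp

/-- A base change is a homomorphism iff it respects products. -/
theorem isMonHom_map_iff (f : A ⟶ B) :
    IsMonHom (M := Red.bc p A) (N := Red.bc p B) ((Over.pullback p).map f) ↔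
      (Over.pullback p).map ((fst A A * snd A A) ≫ f) =
        (Over.pullback p).map ((fst A A ≫ f) * (snd A A ≫ f)) := by
  rw [← cancel_epi (Functor.LaxMonoidal.μ (Over.pullback p) A A), μ_map_mul, Functor.map_comp,
    Functor.map_mul, ← Category.assoc, MonObj.comp_mul]
  simp only [Functor.Monoidal.μ_fst, Functor.Monoidal.μ_snd]
  constructor
  · intro _
    exact MonObj.mul_comp _ _ _
  · intro h
    refine Groth.AlgGrp1.isMonHom_of_points _ fun T a b => ?_
    have := congrArg (lift a b ≫ ·) h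
    simpa [MonObj.comp_mul, ← Category.assoc] using this

end Monoidal

variable {I : Type u} [SmallCategory I] [IsCofiltered I] (D : I ⥤ Scheme.{u})
  [∀ (i i' : I) (f : i ⟶ i'), IsAffineHom (D.map f)] (c : Cone D) (hc : IsLimit c)
  [∀ i, CompactSpace (D.obj i)] [∀ i, QuasiSeparatedSpace (D.obj i)]

/-- `a` factors through `κ` after base change to the stage `f`. -/
def Factors {i j : I} (f : i ⟶ j) {P H G : Over (D.obj j)} (κ : H ⟶ G) (a : P ⟶ G) : Prop :=
  ∃ v, v ≫ (Over.pullback (D.map f)).map κ = (Over.pullback (D.map f)).map a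

omit [IsCofiltered I] [∀ (i i' : I) (f : i ⟶ i'), IsAffineHom (D.map f)] [∀ i, CompactSpace (D.obj i)]
  [∀ i, QuasiSeparatedSpace (D.obj i)]

theorem map_eq_mono {i i' j : I} {f : i ⟶ j} (g : i' ⟶ i) {P G : Over (D.obj j)} {a b : P ⟶ G}
    (h : (Over.pullback (D.map f)).map a = (Over.pullback (D.map f)).map b) :
    (Over.pullback (D.map (g ≫ f))).map a = (Over.pullback (D.map (g ≫ f))).map b := by
  rw [← cancel_epi ((cmp (D.map_comp g f).symm).hom.app P), ← (cmp (D.map_comp g f).symm).hom.naturality a,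
    ← (cmp (D.map_comp g f).symm).hom.naturality b, Functor.comp_map, Functor.comp_map, h]

theorem map_eq_limit {i j : I} {f : i ⟶ j} {P G : Over (D.obj j)} {a b : P ⟶ G}
    (h : (Over.pullback (D.map f)).map a = (Over.pullback (D.map f)).map b) :
    (Over.pullback (c.π.app j)).map a = (Over.pullback (c.π.app j)).map b := by
  rw [← cancel_epi ((cmp (c.w f)).hom.app P), ← (cmp (c.w f)).hom.naturality a,
    ← (cmp (c.w f)).hom.naturality b, Functor.comp_map, Functor.comp_map, h]

theorem Factors.mono {i i' j : I} {f : i ⟶ j} (g : i' ⟶ i) {P H G : Over (D.obj j)} {κ : H ⟶ G}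
    {a : P ⟶ G} (h : Factors D f κ a) : Factors D (g ≫ f) κ a := by
  obtain ⟨v, hv⟩ := h
  refine ⟨(cmp (D.map_comp g f).symm).inv.app P ≫ (Over.pullback (D.map g)).map v ≫
    (cmp (D.map_comp g f).symm).hom.app H, ?_⟩
  rw [Category.assoc, Category.assoc, ← NatTrans.naturality, Functor.comp_map, ← Functor.map_comp_assoc, hv]
  erw [(cmp (D.map_comp g f).symm).hom.naturality a]
  rw [Iso.inv_hom_id_app_assoc]

theorem Factors.limit {i j : I} {f : i ⟶ j} {P H G : Over (D.obj j)} {κ : H ⟶ G} {a : P ⟶ G}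
    (h : Factors D f κ a) :
    ∃ v, v ≫ (Over.pullback (c.π.app j)).map κ = (Over.pullback (c.π.app j)).map a := by
  obtain ⟨v, hv⟩ := h
  refine ⟨(cmp (c.w f)).inv.app P ≫ (Over.pullback (c.π.app i)).map v ≫ (cmp (c.w f)).hom.app H, ?_⟩
  rw [Category.assoc, Category.assoc, ← NatTrans.naturality, Functor.comp_map, ← Functor.map_comp_assoc, hv]
  erw [(cmp (c.w f)).hom.naturality a]
  rw [Iso.inv_hom_id_app_assoc]

variable [IsCofiltered I] [∀ (i i' : I) (f : i ⟶ i'), IsAffineHom (D.map f)]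
  [∀ i, CompactSpace (D.obj i)] [∀ i, QuasiSeparatedSpace (D.obj i)]

include hc in
/-- A factorisation at the limit exists at some stage. -/
theorem exists_factors {j : I} {P H G : Over (D.obj j)} [QuasiCompact P.hom] [QuasiSeparated P.hom]
    [LocallyOfFinitePresentation H.hom] [LocallyOfFiniteType G.hom] (κ : H ⟶ G) (a : P ⟶ G)
    (v : Red.bc (c.π.app j) P ⟶ Red.bc (c.π.app j) H)
    (hv : v ≫ (Over.pullback (c.π.app j)).map κ = (Over.pullback (c.π.app j)).map a) :
    ∃ (i : I) (f : i ⟶ j), Factors D f κ a := by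
  obtain ⟨i, f, vi, hvi⟩ := exists_hom_stage D c hc v
  rw [cmp_app_eq (c.w f) P, cmp_app_eq (c.w f) H, Iso.app_hom, Iso.app_inv] at hvi
  have e : (Over.pullback (c.π.app i)).map (vi ≫ (Over.pullback (D.map f)).map κ) =
      (Over.pullback (c.π.app i)).map ((Over.pullback (D.map f)).map a) := by
    rw [Functor.map_comp, hvi, Category.assoc, Category.assoc]
    erw [← (cmp (c.w f)).inv.naturality κ]
    rw [reassoc_of% hv]
    erw [(cmp (c.w f)).inv.naturality a]
    rw [Iso.hom_inv_id_app_assoc]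
    rfl
  have : QuasiCompact (Red.bc (D.map f) P).hom := inferInstanceAs (QuasiCompact (pullback.snd P.hom (D.map f)))
  have : QuasiSeparated (Red.bc (D.map f) P).hom := inferInstanceAs (QuasiSeparated (pullback.snd P.hom (D.map f)))
  have : LocallyOfFiniteType (Red.bc (D.map f) G).hom :=
    inferInstanceAs (LocallyOfFiniteType (pullback.snd G.hom (D.map f)))
  obtain ⟨i', g, hg⟩ := exists_map_eq D c hc _ _ e
  refine ⟨i', g ≫ f, (cmp (D.map_comp g f).symm).inv.app P ≫ (Over.pullback (D.map g)).map vi ≫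
    (cmp (D.map_comp g f).symm).hom.app H, ?_⟩
  rw [Category.assoc, Category.assoc, ← NatTrans.naturality, Functor.comp_map, ← Functor.map_comp_assoc, hg]
  erw [(cmp (D.map_comp g f).symm).hom.naturality a]
  rw [Iso.inv_hom_id_app_assoc]

include hc in
/-- A homomorphism at the limit comes from a stage. -/
theorem exists_monHom_stage {j : I} (Gj Hj : Over (D.obj j)) [GrpObj Gj] [GrpObj Hj]
    [LocallyOfFinitePresentation Gj.hom] [QuasiCompact Gj.hom] [QuasiSeparated Gj.hom]
    [LocallyOfFinitePresentation Hj.hom]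
    (u : Red.bc (c.π.app j) Gj ⟶ Red.bc (c.π.app j) Hj) (hu : IsMonHom u) :
    ∃ (i : I) (f : i ⟶ j) (ui : Red.bc (D.map f) Gj ⟶ Red.bc (D.map f) Hj), IsMonHom ui ∧
      (Over.pullback (c.π.app i)).map ui =
        (cmp (c.w f)).hom.app Gj ≫ u ≫ (cmp (c.w f)).inv.app Hj := by
  obtain ⟨i, f, ui, hui⟩ := exists_hom_stage D c hc u
  rw [cmp_app_eq (c.w f) Gj, cmp_app_eq (c.w f) Hj, Iso.app_hom, Iso.app_inv] at hui
  have h1 : IsMonHom (M := Red.bc (c.π.app i) (Red.bc (D.map f) Gj))
      (N := Red.bc (c.π.app i) (Red.bc (D.map f) Hj)) ((Over.pullback (c.π.app i)).map ui) := by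
    rw [hui]
    exact Groth.Abvar.isMonHom_comp (isMonHom_cmp (c.w f) Gj).1
      (Groth.Abvar.isMonHom_comp hu (isMonHom_cmp (c.w f) Hj).2)
  have : QuasiCompact (Red.bc (D.map f) Gj).hom := inferInstanceAs (QuasiCompact (pullback.snd Gj.hom (D.map f)))
  have : QuasiSeparated (Red.bc (D.map f) Gj).hom := inferInstanceAs (QuasiSeparated (pullback.snd Gj.hom (D.map f)))
  have : QuasiCompact (Red.bc (D.map f) Gj ⊗ Red.bc (D.map f) Gj).hom :=
    inferInstanceAs (QuasiCompact (pullback.fst (Red.bc (D.map f) Gj).hom (Red.bc (D.map f) Gj).hom ≫ _))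
  have : QuasiSeparated (Red.bc (D.map f) Gj ⊗ Red.bc (D.map f) Gj).hom :=
    inferInstanceAs (QuasiSeparated (pullback.fst (Red.bc (D.map f) Gj).hom (Red.bc (D.map f) Gj).hom ≫ _))
  have : LocallyOfFiniteType (Red.bc (D.map f) Hj).hom :=
    inferInstanceAs (LocallyOfFiniteType (pullback.snd Hj.hom (D.map f)))
  obtain ⟨i', g, hg⟩ := exists_map_eq D c hc _ _ ((isMonHom_map_iff (c.π.app i) ui).1 h1)
  have hgm := (isMonHom_map_iff (D.map g) ui).2 hg
  have hτ := (D.map_comp g f).symm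
  refine ⟨i', g ≫ f, (cmp hτ).inv.app Gj ≫ (Over.pullback (D.map g)).map ui ≫ (cmp hτ).hom.app Hj,
    Groth.Abvar.isMonHom_comp (isMonHom_cmp hτ Gj).2
      (Groth.Abvar.isMonHom_comp hgm (isMonHom_cmp hτ Hj).1), ?_⟩
  rw [← cancel_mono ((cmp (c.w (g ≫ f))).hom.app Hj), Category.assoc, Category.assoc, Iso.inv_hom_id_app]
  simp only [Functor.map_comp, Category.assoc]
  erw [cmp_assoc (c.w g) hτ (c.w f) (c.w (g ≫ f)) Hj]
  erw [(cmp (c.w g)).hom.naturality_assoc ui, hui]
  simp only [Category.assoc, Iso.inv_hom_id_app, Category.comp_id]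
  erw [← reassoc_of% (cmp_assoc (c.w g) hτ (c.w f) (c.w (g ≫ f)) Gj)]
  simp only [← Functor.map_comp_assoc, Iso.inv_hom_id_app, Functor.map_id, Category.id_comp]
  simp

end Groth.GrpLim
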