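import Groth.Agent.GrpLim.Group
import Groth.Agent.SpectralTopology.DescendFP

/-!
Group schemes of finite presentation over a limit come from a stage.
-/

set_option autoImplicit false
set_option backward.isDefEq.respectTransparency false
universe u

open CategoryTheory Limits MonoidalCategory CartesianMonoidalCategory MonObj AlgebraicGeometry

noncomputable section

namespace Groth.GrpLim

theorem cmp_μ {S₁ S₂ S₃ : Scheme.{u}} {a : S₁ ⟶ S₂} {b : S₂ ⟶ S₃} {ab : S₁ ⟶ S₃} (h : a ≫ b = ab)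
    (X Y : Over S₃) :
    Functor.LaxMonoidal.μ (Over.pullback a) ((Over.pullback b).obj X) ((Over.pullback b).obj Y) ≫
        (Over.pullback a).map (Functor.LaxMonoidal.μ (Over.pullback b) X Y) ≫ (cmp h).hom.app (X ⊗ Y) =
      ((cmp h).hom.app X ⊗ₘ (cmp h).hom.app Y) ≫ Functor.LaxMonoidal.μ (Over.pullback ab) X Y := by
  have h₁ := (cmp h).hom.naturality (fst X Y)
  have h₂ := (cmp h).hom.naturality (snd X Y)
  simp only [Functor.comp_map] at h₁ h₂
  rw [← cancel_mono (Functor.Monoidal.μIso (Over.pullback ab) X Y).inv]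
  apply CartesianMonoidalCategory.hom_ext
  · simp [← h₁, ← Functor.map_comp_assoc]
  · simp [← h₂, ← Functor.map_comp_assoc]

theorem map_lift_comp {S S' : Scheme.{u}} (p : S' ⟶ S) {T X Y Z : Over S} (a : T ⟶ X) (b : T ⟶ Y)
    (m : X ⊗ Y ⟶ Z) :
    (Over.pullback p).map (lift a b ≫ m) =
      lift ((Over.pullback p).map a) ((Over.pullback p).map b) ≫
        Functor.LaxMonoidal.μ (Over.pullback p) X Y ≫ (Over.pullback p).map m := by
  rw [Functor.map_comp, ← Category.assoc]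
  congr 1
  rw [← cancel_mono (Functor.Monoidal.μIso (Over.pullback p) X Y).inv]
  apply CartesianMonoidalCategory.hom_ext <;> simp [← Functor.map_comp]

variable {I : Type u} [SmallCategory I] [IsCofiltered I] (D : I ⥤ Scheme.{u})
  [∀ (i i' : I) (f : i ⟶ i'), IsAffineHom (D.map f)] (c : Cone D) (hc : IsLimit c)
  [∀ i, CompactSpace (D.obj i)] [∀ i, QuasiSeparatedSpace (D.obj i)]

/-- `ui` is a model of `u` at the stage `f`. -/
def StageOf {i j : I} (f : i ⟶ j) {A B : Over (D.obj j)}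
    (u : Red.bc (c.π.app j) A ⟶ Red.bc (c.π.app j) B) (ui : Red.bc (D.map f) A ⟶ Red.bc (D.map f) B) : Prop :=
  (Over.pullback (c.π.app i)).map ui = (cmp (c.w f)).hom.app A ≫ u ≫ (cmp (c.w f)).inv.app B

include hc in
theorem exists_stageOf {j : I} {A B : Over (D.obj j)} [QuasiCompact A.hom] [QuasiSeparated A.hom]
    [LocallyOfFinitePresentation B.hom] (u : Red.bc (c.π.app j) A ⟶ Red.bc (c.π.app j) B) :
    ∃ (i : I) (f : i ⟶ j) (ui : Red.bc (D.map f) A ⟶ Red.bc (D.map f) B), StageOf D c f u ui := by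
  obtain ⟨i, f, ui, hui⟩ := exists_hom_stage D c hc u
  rw [cmp_app_eq (c.w f) A, cmp_app_eq (c.w f) B] at hui
  exact ⟨i, f, ui, hui⟩

omit [IsCofiltered I] [∀ (i i' : I) (f : i ⟶ i'), IsAffineHom (D.map f)] [∀ i, CompactSpace (D.obj i)]
  [∀ i, QuasiSeparatedSpace (D.obj i)] in
theorem StageOf.mono {i i' j : I} {f : i ⟶ j} (g : i' ⟶ i) {A B : Over (D.obj j)}
    {u : Red.bc (c.π.app j) A ⟶ Red.bc (c.π.app j) B} {ui : Red.bc (D.map f) A ⟶ Red.bc (D.map f) B}
    (h : StageOf D c f u ui) : ∃ ui', StageOf D c (g ≫ f) u ui' := by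
  have hτ := (D.map_comp g f).symm
  refine ⟨(cmp hτ).inv.app A ≫ (Over.pullback (D.map g)).map ui ≫ (cmp hτ).hom.app B, ?_⟩
  unfold StageOf at h ⊢
  rw [← cancel_mono ((cmp (c.w (g ≫ f))).hom.app B), Category.assoc, Category.assoc, Iso.inv_hom_id_app]
  simp only [Functor.map_comp, Category.assoc]
  erw [cmp_assoc (c.w g) hτ (c.w f) (c.w (g ≫ f)) B]
  erw [(cmp (c.w g)).hom.naturality_assoc ui, h]
  simp only [Category.assoc, Iso.inv_hom_id_app, Category.comp_id]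
  erw [← reassoc_of% (cmp_assoc (c.w g) hτ (c.w f) (c.w (g ≫ f)) A)]
  simp only [← Functor.map_comp_assoc, Iso.inv_hom_id_app, Functor.map_id, Category.id_comp]
  simp

set_option synthInstance.maxHeartbeats 400000 in
set_option maxHeartbeats 4000000 in
include hc in
theorem exists_groupModel (G : Over c.pt) [GrpObj G] [LocallyOfFinitePresentation G.hom]
    [QuasiCompact G.hom] [QuasiSeparated G.hom] :
    ∃ (j : I) (Gj : Over (D.obj j)) (_ : GrpObj Gj) (e : G ≅ Red.bc (c.π.app j) Gj),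
      IsMonHom e.hom ∧ LocallyOfFinitePresentation Gj.hom ∧ QuasiCompact Gj.hom ∧ QuasiSeparated Gj.hom := by
  obtain ⟨j₀, ⟨M⟩⟩ := Groth.SpectralTopology.exists_stageModel (D := D) (c := c) hc G.hom
  let H₀ : Over (D.obj j₀) := Over.mk M.hom
  let e₀ : G ≅ Red.bc (c.π.app j₀) H₀ := Over.isoMk M.sq.isoPullback M.sq.isoPullback_hom_snd
  have : QuasiCompact H₀.hom := M.qc
  have : QuasiSeparated H₀.hom := M.qs
  have : LocallyOfFinitePresentation H₀.hom := M.lfp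
  have : QuasiCompact (H₀ ⊗ H₀).hom := inferInstanceAs (QuasiCompact (pullback.fst H₀.hom H₀.hom ≫ H₀.hom))
  have : QuasiSeparated (H₀ ⊗ H₀).hom := inferInstanceAs (QuasiSeparated (pullback.fst H₀.hom H₀.hom ≫ H₀.hom))
  have : QuasiCompact (𝟙_ (Over (D.obj j₀))).hom := inferInstanceAs (QuasiCompact (𝟙 (D.obj j₀)))
  have : QuasiSeparated (𝟙_ (Over (D.obj j₀))).hom := inferInstanceAs (QuasiSeparated (𝟙 (D.obj j₀)))
  let um : Red.bc (c.π.app j₀) (H₀ ⊗ H₀) ⟶ Red.bc (c.π.app j₀) H₀ :=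
    Functor.OplaxMonoidal.δ (Over.pullback (c.π.app j₀)) H₀ H₀ ≫ (e₀.inv ⊗ₘ e₀.inv) ≫ μ[G] ≫ e₀.hom
  let u1 : Red.bc (c.π.app j₀) (𝟙_ (Over (D.obj j₀))) ⟶ Red.bc (c.π.app j₀) H₀ :=
    toUnit _ ≫ η[G] ≫ e₀.hom
  let ui : Red.bc (c.π.app j₀) H₀ ⟶ Red.bc (c.π.app j₀) H₀ :=
    e₀.inv ≫ GrpObj.inv (X := G) ≫ e₀.hom
  obtain ⟨i₁, f₁, m₁, hm₁⟩ := exists_stageOf D c hc um
  obtain ⟨i₂, f₂, m₂, hm₂⟩ := exists_stageOf D c hc u1
  obtain ⟨i₃, f₃, m₃, hm₃⟩ := exists_stageOf D c hc ui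
  obtain ⟨k₁, g₁, g₂, hk₁⟩ := IsCofiltered.cospan f₁ f₂
  obtain ⟨k, g, g₃, hk⟩ := IsCofiltered.cospan (g₁ ≫ f₁) f₃
  obtain ⟨a₁, ha₁⟩ := StageOf.mono D c g₁ hm₁
  obtain ⟨a₂, ha₂⟩ := StageOf.mono D c g₂ hm₂
  obtain ⟨b₁, hb₁⟩ := StageOf.mono D c g ha₁
  obtain ⟨b₂, hb₂⟩ : ∃ b, StageOf D c (g ≫ g₁ ≫ f₁) u1 b := by
    rw [hk₁]; exact StageOf.mono D c g ha₂
  obtain ⟨b₃, hb₃⟩ : ∃ b, StageOf D c (g ≫ g₁ ≫ f₁) ui b := by
    rw [hk]; exact StageOf.mono D c g₃ hm₃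
  generalize g ≫ g₁ ≫ f₁ = f at b₁ hb₁ b₂ hb₂ b₃ hb₃
  let H := Red.bc (D.map f) H₀
  let m : H ⊗ H ⟶ H := Functor.LaxMonoidal.μ (Over.pullback (D.map f)) H₀ H₀ ≫ b₁
  let e1 : 𝟙_ (Over (D.obj k)) ⟶ H := Functor.LaxMonoidal.ε (Over.pullback (D.map f)) ≫ b₂
  let iv : H ⟶ H := b₃
  let P := Over.pullback (c.π.app k)
  let σ := (cmp (c.w f)).app H₀
  let E : G ≅ P.obj H := e₀ ≪≫ σ.symm
  let inst : GrpObj (P.obj H) := GrpObj.ofIso E
  have hmul : Functor.LaxMonoidal.μ P H H ≫ P.map m = μ[P.obj H] := by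
    show _ = (E.inv ⊗ₘ E.inv) ≫ μ[G] ≫ E.hom
    simp only [m, Functor.map_comp, P]
    rw [hb₁]
    erw [reassoc_of% (cmp_μ (c.w f) H₀ H₀)]
    simp only [um, E, σ, Category.assoc, Iso.trans_hom, Iso.trans_inv, Iso.symm_hom, Iso.symm_inv,
      Iso.app_hom, Iso.app_inv, Functor.Monoidal.μ_δ_assoc]
    rw [← tensorHom_comp_tensorHom_assoc]
  have hone : ∀ {T : Over c.pt} (x : T ⟶ P.obj (𝟙_ _)), x ≫ P.map e1 = toUnit T ≫ η[P.obj H] := by
    intro T x
    show _ = toUnit T ≫ η[G] ≫ E.hom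
    simp only [e1, Functor.map_comp, P]
    rw [hb₂]
    simp only [u1, E, σ, Category.assoc, Iso.trans_hom, Iso.symm_hom, Iso.app_inv]
    simp only [← Category.assoc]
    congr 3
    exact toUnit_unique _ _
  have hinv : P.map iv = GrpObj.inv (X := P.obj H) := by
    show _ = E.inv ≫ GrpObj.inv (X := G) ≫ E.hom
    simp only [iv, P]
    rw [hb₃]
    simp [ui, E, σ]
  have hl : ∀ {T : Over (D.obj k)} (a b : T ⟶ H),
      (P.map (lift a b ≫ m) : P.obj T ⟶ P.obj H) = P.map a * P.map b := fun a b => by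
    rw [map_lift_comp, hmul, Hom.mul_def]
  have h1 : ∀ {T : Over (D.obj k)}, (P.map (toUnit T ≫ e1) : P.obj T ⟶ P.obj H) = 1 := fun {T} => by
    rw [Functor.map_comp, hone, Hom.one_def]
  have hi : ∀ {T : Over (D.obj k)} (a : T ⟶ H), (P.map (a ≫ iv) : P.obj T ⟶ P.obj H) = (P.map a)⁻¹ := fun a => by
    rw [Functor.map_comp, hinv, Hom.inv_def]
  have : QuasiCompact H.hom := inferInstanceAs (QuasiCompact (pullback.snd H₀.hom (D.map f)))
  have : QuasiSeparated H.hom := inferInstanceAs (QuasiSeparated (pullback.snd H₀.hom (D.map f)))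
  have : LocallyOfFinitePresentation H.hom :=
    inferInstanceAs (LocallyOfFinitePresentation (pullback.snd H₀.hom (D.map f)))
  have : QuasiCompact (H ⊗ H).hom := inferInstanceAs (QuasiCompact (pullback.fst H.hom H.hom ≫ H.hom))
  have : QuasiSeparated (H ⊗ H).hom := inferInstanceAs (QuasiSeparated (pullback.fst H.hom H.hom ≫ H.hom))
  have : QuasiCompact ((H ⊗ H) ⊗ H).hom :=
    inferInstanceAs (QuasiCompact (pullback.fst (H ⊗ H).hom H.hom ≫ (H ⊗ H).hom))
  have : QuasiSeparated ((H ⊗ H) ⊗ H).hom :=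
    inferInstanceAs (QuasiSeparated (pullback.fst (H ⊗ H).hom H.hom ≫ (H ⊗ H).hom))
  let p₁ := fst (H ⊗ H) H ≫ fst H H
  let p₂ := fst (H ⊗ H) H ≫ snd H H
  let p₃ := snd (H ⊗ H) H
  obtain ⟨l₁, q₁, hq₁⟩ := exists_map_eq D c hc (lift (lift p₁ p₂ ≫ m) p₃ ≫ m)
    (lift p₁ (lift p₂ p₃ ≫ m) ≫ m) (by
      show P.map _ = P.map _
      rw [hl, hl, hl, hl, _root_.mul_assoc])
  obtain ⟨l₂, q₂, hq₂⟩ := exists_map_eq D c hc (lift (toUnit H ≫ e1) (𝟙 H) ≫ m) (𝟙 H) (by
      show P.map _ = P.map _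
      rw [hl, h1, _root_.one_mul])
  obtain ⟨l₃, q₃, hq₃⟩ := exists_map_eq D c hc (lift (𝟙 H) (toUnit H ≫ e1) ≫ m) (𝟙 H) (by
      show P.map _ = P.map _
      rw [hl, h1, _root_.mul_one])
  obtain ⟨l₄, q₄, hq₄⟩ := exists_map_eq D c hc (lift (𝟙 H ≫ iv) (𝟙 H) ≫ m) (toUnit H ≫ e1) (by
      show P.map _ = P.map _
      rw [hl, hi, h1, inv_mul_cancel])
  obtain ⟨l₅, q₅, hq₅⟩ := exists_map_eq D c hc (lift (𝟙 H) (𝟙 H ≫ iv) ≫ m) (toUnit H ≫ e1) (by
      show P.map _ = P.map _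
      rw [hl, hi, h1, mul_inv_cancel])
  obtain ⟨r₁, s₁, t₁, hr₁⟩ := IsCofiltered.cospan q₁ q₂
  obtain ⟨r₂, s₂, t₂, hr₂⟩ := IsCofiltered.cospan q₃ q₄
  obtain ⟨r₃, s₃, t₃, hr₃⟩ := IsCofiltered.cospan (s₁ ≫ q₁) (s₂ ≫ q₃)
  obtain ⟨r, s, t, hr⟩ := IsCofiltered.cospan (s₃ ≫ s₁ ≫ q₁) q₅
  have E₁ := map_eq_mono D s (map_eq_mono D s₃ (map_eq_mono D s₁ hq₁))
  have E₂ := map_eq_mono D s (map_eq_mono D s₃ (map_eq_mono D t₁ hq₂))
  have E₃ := map_eq_mono D s (map_eq_mono D t₃ (map_eq_mono D s₂ hq₃))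
  have E₄ := map_eq_mono D s (map_eq_mono D t₃ (map_eq_mono D t₂ hq₄))
  have E₅ := map_eq_mono D t hq₅
  rw [← hr₁] at E₂
  rw [← hr₃] at E₃
  rw [← hr₂, ← hr₃] at E₄
  rw [← hr] at E₅
  generalize hq : s ≫ s₃ ≫ s₁ ≫ q₁ = q at E₁ E₂ E₃ E₄ E₅
  let Q := Over.pullback (D.map q)
  let L := Q.obj H
  let M' : L ⊗ L ⟶ L := Functor.LaxMonoidal.μ Q H H ≫ Q.map m
  have QL : ∀ {T : Over (D.obj k)} (a b : T ⟶ H), Q.map (lift a b ≫ m) = lift (Q.map a) (Q.map b) ≫ M' :=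
    fun a b => map_lift_comp _ a b m
  have pts : ∀ {T : Over (D.obj r)} (a b d : T ⟶ L), ∃ w : T ⟶ Q.obj ((H ⊗ H) ⊗ H),
      w ≫ Q.map p₁ = a ∧ w ≫ Q.map p₂ = b ∧ w ≫ Q.map p₃ = d := fun a b d =>
    ⟨lift (lift a b ≫ Functor.LaxMonoidal.μ Q H H) d ≫ Functor.LaxMonoidal.μ Q (H ⊗ H) H,
      by
        simp only [p₁, Functor.map_comp, Category.assoc, Functor.Monoidal.μ_fst_assoc]
        erw [lift_fst_assoc]
        simp only [Category.assoc, Functor.Monoidal.μ_fst]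
        exact lift_fst _ _,
      by
        simp only [p₂, Functor.map_comp, Category.assoc, Functor.Monoidal.μ_fst_assoc]
        erw [lift_fst_assoc]
        simp only [Category.assoc, Functor.Monoidal.μ_snd]
        exact lift_snd _ _,
      by simp only [p₃, Category.assoc, Functor.Monoidal.μ_snd]; exact lift_snd _ _⟩
  have hu : ∀ {T : Over (D.obj k)}, Q.map (toUnit T ≫ e1) =
      toUnit (Q.obj T) ≫ Functor.LaxMonoidal.ε Q ≫ Q.map e1 := fun {T} => by
    rw [Functor.map_comp, ← Category.assoc]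
    congr 1
    rw [← cancel_mono (Functor.Monoidal.εIso Q).inv]
    exact toUnit_unique _ _
  have A₁ : ∀ {T : Over (D.obj r)} (a b d : T ⟶ L),
      lift (lift a b ≫ M') d ≫ M' = lift a (lift b d ≫ M') ≫ M' := fun a b d => by
    obtain ⟨w, rfl, rfl, rfl⟩ := pts a b d
    have e := congrArg (w ≫ ·) E₁
    simpa only [Q, QL, comp_lift_assoc] using e
  let mon : MonObj L :=
    { one := Functor.LaxMonoidal.ε Q ≫ Q.map e1
      mul := M'
      one_mul := by
        have e : lift (toUnit L ≫ Functor.LaxMonoidal.ε Q ≫ Q.map e1) (𝟙 L) ≫ M' = 𝟙 L := by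
          have e := E₂
          rw [QL, hu, Q.map_id] at e
          exact e
        have e' := congrArg (snd (𝟙_ _) L ≫ ·) e
        simp only [comp_lift_assoc, Category.comp_id] at e'
        rw [leftUnitor_hom, ← e']
        refine congrArg (· ≫ M') (CartesianMonoidalCategory.hom_ext _ _ ?_
          ((whiskerRight_snd _ _).trans (lift_snd _ _).symm))
        rw [whiskerRight_fst, lift_fst, toUnit_unique (fst (𝟙_ _) L) (snd (𝟙_ _) L ≫ toUnit L),
          Category.assoc]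
      mul_one := by
        have e : lift (𝟙 L) (toUnit L ≫ Functor.LaxMonoidal.ε Q ≫ Q.map e1) ≫ M' = 𝟙 L := by
          have e := E₃
          rw [QL, hu, Q.map_id] at e
          exact e
        have e' := congrArg (fst L (𝟙_ _) ≫ ·) e
        simp only [comp_lift_assoc, Category.comp_id] at e'
        rw [rightUnitor_hom, ← e']
        refine congrArg (· ≫ M') (CartesianMonoidalCategory.hom_ext _ _
          ((whiskerLeft_fst _ _).trans (lift_fst _ _).symm) ?_)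
        rw [whiskerLeft_snd, lift_snd, toUnit_unique (snd L (𝟙_ _)) (fst L (𝟙_ _) ≫ toUnit L),
          Category.assoc]
      mul_assoc := by
        have e := A₁ (fst (L ⊗ L) L ≫ fst L L) (fst (L ⊗ L) L ≫ snd L L) (snd (L ⊗ L) L)
        rw [← comp_lift_assoc, lift_fst_snd, Category.id_comp] at e
        rw [show M' ▷ L = lift (fst (L ⊗ L) L ≫ M') (snd (L ⊗ L) L) by
          apply CartesianMonoidalCategory.hom_ext <;> simp, e]
        refine (congrArg (· ≫ M') (CartesianMonoidalCategory.hom_ext _ _ ?_ ?_)).trans (Category.assoc _ _ _)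
        · rw [lift_fst, Category.assoc, whiskerLeft_fst, associator_hom_fst]
        · rw [lift_snd, Category.assoc, whiskerLeft_snd]
          refine (congrArg (· ≫ M') (CartesianMonoidalCategory.hom_ext _ _ ?_ ?_)).trans (Category.assoc _ _ _)
          · rw [lift_fst, Category.assoc, associator_hom_snd_fst]
          · rw [lift_snd, Category.assoc, associator_hom_snd_snd] }
  let grp : GrpObj L :=
    { mon with
      inv := Q.map iv
      left_inv := by
        have e := E₄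
        rw [QL, hu, Category.id_comp, Q.map_id] at e
        exact e
      right_inv := by
        have e := E₅
        rw [QL, hu, Category.id_comp, Q.map_id] at e
        exact e }
  let τ := (cmp (c.w q)).app H
  let F : G ≅ Red.bc (c.π.app r) L := E ≪≫ τ.symm
  letI := grp
  refine ⟨r, L, grp, F, ?_, ?_, ?_, ?_⟩
  · refine Groth.AlgGrp1.isMonHom_of_points _ fun T a b => ?_
    rw [← cancel_mono τ.hom, Hom.mul_def (a ≫ F.hom)]
    show _ = (lift (a ≫ F.hom) (b ≫ F.hom) ≫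
      Functor.LaxMonoidal.μ (Over.pullback (c.π.app r)) L L ≫ (Over.pullback (c.π.app r)).map M') ≫ τ.hom
    have key : Functor.LaxMonoidal.μ (Over.pullback (c.π.app r)) L L ≫
        (Over.pullback (c.π.app r)).map M' ≫ τ.hom = (τ.hom ⊗ₘ τ.hom) ≫ μ[P.obj H] := by
      rw [← hmul]
      simp only [M', Functor.map_comp, Category.assoc, τ, Iso.app_hom]
      erw [(cmp (c.w q)).hom.naturality m]
      erw [reassoc_of% (cmp_μ (c.w q) H H)]
    simp only [F, Category.assoc, Iso.trans_hom, Iso.symm_hom, Iso.inv_hom_id, Category.comp_id]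
    rw [key, lift_map_assoc]
    simp only [Category.assoc, Iso.inv_hom_id, Category.comp_id]
    show ((a * b) ≫ E.hom : T ⟶ P.obj H) = lift (a ≫ E.hom) (b ≫ E.hom) ≫ (E.inv ⊗ₘ E.inv) ≫ μ[G] ≫ E.hom
    rw [lift_map_assoc, Category.assoc, Category.assoc, E.hom_inv_id, Category.comp_id, Category.comp_id,
      Hom.mul_def, Category.assoc]
  · exact inferInstanceAs (LocallyOfFinitePresentation (pullback.snd H.hom (D.map q)))
  · exact inferInstanceAs (QuasiCompact (pullback.snd H.hom (D.map q)))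
  · exact inferInstanceAs (QuasiSeparated (pullback.snd H.hom (D.map q)))

end Groth.GrpLim
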