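import Groth.Agent.GrpLim.GroupModel
import Groth.Agent.Limits.Topology
import Groth.Agent.Limits.SmoothDescent
import Groth.Agent.Limits.FlatDescent
import Groth.Agent.SpectralTopology.FpCancel
import Groth.Agent.GitQuot.FppfSourceScheme

/-!
Flat, surjective morphisms and cartesian squares over a limit come from a stage.
-/

set_option autoImplicit false
set_option backward.isDefEq.respectTransparency false
universe u

open CategoryTheory Limits MonoidalCategory CartesianMonoidalCategory AlgebraicGeometry Topology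

noncomputable section

namespace Groth.GrpLim

theorem isPullback_map_left {S' S : Scheme.{u}} (a : S' ⟶ S) {B Q : Over S} (q : B ⟶ Q) :
    IsPullback (pullback.fst B.hom a) ((Over.pullback a).map q).left q.left (pullback.fst Q.hom a) :=
  IsPullback.of_bot
    (by
      convert IsPullback.of_hasPullback B.hom a using 1
      · exact Over.w ((Over.pullback a).map q)
      · exact Over.w q)
    (map_fst a q).symm (IsPullback.of_hasPullback Q.hom a)

theorem flat_map_left {S' S : Scheme.{u}} (a : S' ⟶ S) {B Q : Over S} (q : B ⟶ Q) [Flat q.left] :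
    Flat ((Over.pullback a).map q).left :=
  MorphismProperty.of_isPullback (isPullback_map_left a q) inferInstance

theorem surjective_map_left {S' S : Scheme.{u}} (a : S' ⟶ S) {B Q : Over S} (q : B ⟶ Q) [Surjective q.left] :
    Surjective ((Over.pullback a).map q).left :=
  MorphismProperty.of_isPullback (isPullback_map_left a q) inferInstance

theorem lfp_map_left {S' S : Scheme.{u}} (a : S' ⟶ S) {B Q : Over S} (q : B ⟶ Q)
    [LocallyOfFinitePresentation q.left] : LocallyOfFinitePresentation ((Over.pullback a).map q).left :=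
  MorphismProperty.of_isPullback (isPullback_map_left a q) inferInstance

/-- A surjective open morphism one of whose self-base-changes is quasi-compact is quasi-compact. -/
theorem quasiCompact_of_isPullback_self {T G Q : Scheme.{u}} {a b : T ⟶ G} {p : G ⟶ Q}
    (h : IsPullback a b p p) [QuasiCompact b] [Surjective p] (hp : IsOpenMap p) : QuasiCompact p := by
  constructor
  intro U hU hU'
  obtain ⟨V, hVc, hVU⟩ : ∃ V : G.Opens, IsCompact (V : Set G) ∧ (p '' (V : Set G) = U) := by
    have hcover : U ⊆ ⋃ W : {W : G.Opens // IsAffineOpen W ∧ (W : Set G) ⊆ p ⁻¹' U}, p '' (W.1 : Set G) := by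
      intro y hy
      obtain ⟨x, rfl⟩ := p.surjective y
      obtain ⟨W, hW, hxW, hWU⟩ := exists_isAffineOpen_mem_and_subset (U := ⟨p ⁻¹' U, hU.preimage p.continuous⟩)
        (show x ∈ (⟨p ⁻¹' U, hU.preimage p.continuous⟩ : G.Opens) from hy)
      exact Set.mem_iUnion.2 ⟨⟨W, hW, hWU⟩, x, hxW, rfl⟩
    obtain ⟨t, ht⟩ := hU'.elim_finite_subcover _ (fun W => hp _ W.1.2) hcover
    refine ⟨⨆ W ∈ t, W.1, ?_, ?_⟩
    · simp only [TopologicalSpace.Opens.coe_iSup]
      exact t.isCompact_biUnion fun W _ => W.2.1.isCompact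
    · simp only [TopologicalSpace.Opens.coe_iSup, Set.image_iUnion]
      refine subset_antisymm ?_ ht
      exact Set.iUnion₂_subset fun W _ => Set.image_subset_iff.2 W.2.2
  have hc := (QuasiCompact.isCompact_preimage (f := b) (V : Set G) V.2 hVc).image a.continuous
  convert hc using 1
  refine subset_antisymm (fun x hx => ?_) ?_
  · obtain ⟨v, hv, hpv⟩ := hVU.ge hx
    obtain ⟨z, hz1, hz2⟩ := Scheme.Pullback.exists_preimage_pullback (f := p) (g := p) x v hpv.symm
    refine ⟨h.isoPullback.inv z, ?_, ?_⟩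
    · show b _ ∈ V
      rw [← Scheme.Hom.comp_apply, h.isoPullback_inv_snd, hz2]
      exact hv
    · rw [← Scheme.Hom.comp_apply, h.isoPullback_inv_fst, hz1]
  · rintro _ ⟨z, hz, rfl⟩
    show p (a z) ∈ U
    rw [← Scheme.Hom.comp_apply, h.w, Scheme.Hom.comp_apply]
    exact hVU.le ⟨_, hz, rfl⟩

variable {I : Type u} [SmallCategory I] [IsCofiltered I] (D : I ⥤ Scheme.{u})
  [∀ (i i' : I) (f : i ⟶ i'), IsAffineHom (D.map f)] (c : Cone D) (hc : IsLimit c)
  [∀ i, CompactSpace (D.obj i)] [∀ i, QuasiSeparatedSpace (D.obj i)]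

include hc in
theorem exists_flat_map_left {k : I} {B Q : Over (D.obj k)} (q : B ⟶ Q) [QuasiCompact B.hom]
    [LocallyOfFinitePresentation q.left] (h : Flat ((Over.pullback (c.π.app k)).map q).left) :
    ∃ (l : I) (φ : l ⟶ k), Flat ((Over.pullback (D.map φ)).map q).left := by
  have : CompactSpace B.left := QuasiCompact.compactSpace_of_compactSpace B.hom
  obtain ⟨o, ho⟩ := Groth.Limits.exists_prop_stage @Flat Groth.Limits.ringDescends_flat
    (fun _ _ _ h ↦ have : IsOpenImmersion _ := h; inferInstance) hc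
    (IsPullback.of_hasPullback Q.hom (c.π.app k)) (isPullback_map_left (c.π.app k) q) h
  refine ⟨o.left, o.hom, ?_⟩
  have sq : IsPullback (pullback.fst B.hom (D.map o.hom))
      (((Over.pullback (D.map o.hom)).map q).left ≫ (pullbackSymmetry Q.hom (D.map o.hom)).hom)
      q.left (pullback.snd (D.map o.hom) Q.hom) :=
    (isPullback_map_left (D.map o.hom) q).of_iso (Iso.refl _) (Iso.refl _)
      (pullbackSymmetry Q.hom (D.map o.hom)) (Iso.refl _) (by simp) (by simp) (by simp)
      ((Category.comp_id _).trans (pullbackSymmetry_hom_comp_snd _ _).symm)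
  have h2 := ho
  rw [← sq.isoPullback_inv_snd, MorphismProperty.cancel_left_of_respectsIso @Flat] at h2
  exact (MorphismProperty.cancel_right_of_respectsIso @Flat _ _).1 h2

include hc in
theorem exists_surjective_map_left {k : I} {B Q : Over (D.obj k)} (q : B ⟶ Q) [QuasiCompact B.hom]
    [QuasiCompact Q.hom] [QuasiSeparated Q.hom]
    [LocallyOfFinitePresentation q.left] (h : Surjective ((Over.pullback (c.π.app k)).map q).left) :
    ∃ (l : I) (φ : l ⟶ k), Surjective ((Over.pullback (D.map φ)).map q).left := by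
  have : CompactSpace B.left := QuasiCompact.compactSpace_of_compactSpace B.hom
  have := compactSpace_diagram D k Q
  have := quasiSeparatedSpace_diagram D k Q
  have : QuasiSeparatedSpace Q.left := quasiSeparatedSpace_of_quasiSeparated Q.hom
  have : CompactSpace Q.left := QuasiCompact.compactSpace_of_compactSpace Q.hom
  have : QuasiCompact q.left := by
    have : QuasiCompact (q.left ≫ Q.hom) := by rw [Over.w q]; infer_instance
    exact MorphismProperty.of_postcomp (W := @QuasiCompact) (W' := @QuasiSeparated) q.left Q.hom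
      inferInstance inferInstance
  have hR : IsConstructible (Set.range q.left) := by
    rw [← Set.image_univ]; exact q.left.isConstructible_image IsConstructible.univ
  let D' := Groth.Limits.pullbackDiagram D k Q.hom
  let c' := Groth.Limits.pullbackCone D k Q.hom c
  let k₀ : Over k := Over.mk (𝟙 k)
  let p₀ : D'.obj k₀ ⟶ Q.left := pullback.snd (D.map (𝟙 k)) Q.hom
  obtain ⟨o, ψ, ho⟩ := Groth.Limits.exists_preimage_subset D' c'
    (Groth.Limits.isLimitPullbackCone D k Q.hom hc) (i := k₀) (E := Set.univ)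
    (F := p₀ ⁻¹' Set.range q.left) Groth.Limits.pc_univ.qcImage
    (Groth.Limits.pc_compl_of_isConstructible (p₀.isConstructible_preimage hR)) (fun x _ ↦ by
      obtain ⟨y, hy⟩ := h.surj ((pullbackSymmetry (c.π.app k) Q.hom).hom x)
      refine ⟨pullback.fst B.hom (c.π.app k) y, ?_⟩
      have hp : c'.π.app k₀ ≫ p₀ = (pullbackSymmetry (c.π.app k) Q.hom).hom ≫
          pullback.fst Q.hom (c.π.app k) :=
        (pullback.lift_snd _ _ _).trans (pullbackSymmetry_hom_comp_fst _ _).symm
      show (pullback.fst B.hom (c.π.app k) ≫ q.left) y = (c'.π.app k₀ ≫ p₀) x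
      rw [hp, ← map_fst]
      exact congrArg _ hy)
  obtain rfl : ψ = Over.homMk o.hom := by
    ext
    exact (Category.comp_id _).symm.trans (Over.w ψ)
  refine ⟨o.left, o.hom, ⟨fun t => ?_⟩⟩
  obtain ⟨y, hy⟩ : (D'.map (Over.homMk o.hom : o ⟶ k₀) ≫ p₀)
      ((pullbackSymmetry Q.hom (D.map o.hom)).hom t) ∈ Set.range q.left := by
    rw [Scheme.Hom.comp_apply]
    exact ho (Set.mem_univ _)
  have hp : D'.map (Over.homMk o.hom : o ⟶ k₀) ≫ p₀ = pullback.snd (D.map o.hom) Q.hom :=
    Groth.Limits.pullbackDiagram_map_π D k Q.hom o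
  rw [hp] at hy
  erw [← Scheme.Hom.comp_apply, pullbackSymmetry_hom_comp_snd] at hy
  obtain ⟨z, -, hz⟩ := Scheme.Pullback.exists_preimage_pullback (f := q.left)
    (g := pullback.fst Q.hom (D.map o.hom)) y t hy
  refine ⟨(isPullback_map_left (D.map o.hom) q).isoPullback.inv z, ?_⟩
  exact (congrArg (fun m => m z) (isPullback_map_left (D.map o.hom) q).isoPullback_inv_snd).trans hz

include hc in
theorem exists_isIso_map {j : I} {A B : Over (D.obj j)} [QuasiCompact A.hom] [QuasiSeparated A.hom]
    [QuasiCompact B.hom] [QuasiSeparated B.hom]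
    [LocallyOfFinitePresentation A.hom] [LocallyOfFinitePresentation B.hom]
    (s : A ⟶ B) (h : IsIso ((Over.pullback (c.π.app j)).map s)) :
    ∃ (i : I) (f : i ⟶ j), IsIso ((Over.pullback (D.map f)).map s) := by
  obtain ⟨i, f, t, ht⟩ := exists_stageOf D c hc (inv ((Over.pullback (c.π.app j)).map s))
  let σ := cmp (c.w f)
  have hσ : (Over.pullback (c.π.app i)).map ((Over.pullback (D.map f)).map s) =
      σ.hom.app A ≫ (Over.pullback (c.π.app j)).map s ≫ σ.inv.app B :=
    by rw [← σ.hom.naturality_assoc, Iso.hom_inv_id_app, Category.comp_id]; rfl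
  have : QuasiCompact (Red.bc (D.map f) A).hom := inferInstanceAs (QuasiCompact (pullback.snd A.hom _))
  have : QuasiSeparated (Red.bc (D.map f) A).hom := inferInstanceAs (QuasiSeparated (pullback.snd A.hom _))
  have : QuasiCompact (Red.bc (D.map f) B).hom := inferInstanceAs (QuasiCompact (pullback.snd B.hom _))
  have : QuasiSeparated (Red.bc (D.map f) B).hom := inferInstanceAs (QuasiSeparated (pullback.snd B.hom _))
  have : LocallyOfFiniteType (Red.bc (D.map f) A).hom := inferInstanceAs (LocallyOfFiniteType (pullback.snd A.hom _))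
  have : LocallyOfFiniteType (Red.bc (D.map f) B).hom := inferInstanceAs (LocallyOfFiniteType (pullback.snd B.hom _))
  obtain ⟨k₁, g₁, h₁⟩ := exists_map_eq D c hc (t ≫ (Over.pullback (D.map f)).map s) (𝟙 _) (by
    unfold StageOf at ht
    rw [Functor.map_comp, CategoryTheory.Functor.map_id, ht, hσ]
    simp only [Category.assoc, σ]
    erw [Iso.inv_hom_id_app_assoc, IsIso.inv_hom_id_assoc, Iso.hom_inv_id_app]
    rfl)
  obtain ⟨k₂, g₂, h₂⟩ := exists_map_eq D c hc ((Over.pullback (D.map f)).map s ≫ t) (𝟙 _) (by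
    unfold StageOf at ht
    rw [Functor.map_comp, CategoryTheory.Functor.map_id, ht, hσ]
    simp only [Category.assoc, σ]
    erw [Iso.inv_hom_id_app_assoc, IsIso.hom_inv_id_assoc, Iso.hom_inv_id_app]
    rfl)
  obtain ⟨k, a, b, hab⟩ := IsCofiltered.cospan g₁ g₂
  have e₁ := map_eq_mono D a h₁
  have e₂ := map_eq_mono D b h₂
  rw [← hab] at e₂
  rw [(Over.pullback (D.map (a ≫ g₁))).map_comp, (Over.pullback (D.map (a ≫ g₁))).map_id] at e₁ e₂
  have : IsIso ((Over.pullback (D.map (a ≫ g₁))).map ((Over.pullback (D.map f)).map s)) := ⟨_, e₂, e₁⟩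
  exact ⟨k, (a ≫ g₁) ≫ f, (NatIso.isIso_map_iff (cmp (D.map_comp (a ≫ g₁) f).symm) s).1 this⟩

/-- A quotient of `B` by the pair `s, φ : A ⟶ B` after base change along `p`. -/
def HasQuot {S' S : Scheme.{u}} (p : S' ⟶ S) {A B : Over S} (s φ : A ⟶ B) : Prop :=
  ∃ (Q : Over S') (q : Red.bc p B ⟶ Q), Flat q.left ∧ Surjective q.left ∧
    LocallyOfFinitePresentation q.left ∧
    IsPullback ((Over.pullback p).map s) ((Over.pullback p).map φ) q q

theorem HasQuot.bc {S₁ S₂ S₃ : Scheme.{u}} {a : S₁ ⟶ S₂} {b : S₂ ⟶ S₃} {ab : S₁ ⟶ S₃}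
    (h : a ≫ b = ab) {A B : Over S₃} {s φ : A ⟶ B} (hq : HasQuot b s φ) : HasQuot ab s φ := by
  obtain ⟨Q, q, h1, h2, h3, h4⟩ := hq
  let σ := cmp h
  have := flat_map_left a q
  have := surjective_map_left a q
  have := lfp_map_left a q
  have : IsIso ((σ.inv.app B).left) := inferInstanceAs (IsIso ((Over.forget _).map (σ.inv.app B)))
  refine ⟨(Over.pullback a).obj Q, σ.inv.app B ≫ (Over.pullback a).map q, ?_, ?_, ?_, ?_⟩
  · rw [Over.comp_left]; infer_instance
  · rw [Over.comp_left]; infer_instance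
  · rw [Over.comp_left]; infer_instance
  · refine (h4.map (Over.pullback a)).of_iso (σ.app A) (σ.app B) (σ.app B) (Iso.refl _) ?_ ?_ ?_ ?_
    · exact σ.hom.naturality s
    · exact σ.hom.naturality φ
    · simp [σ]
    · simp [σ]

theorem HasQuot.of_map {S₁ S₂ S₃ : Scheme.{u}} {a : S₁ ⟶ S₂} {b : S₂ ⟶ S₃} {ab : S₁ ⟶ S₃}
    (h : a ≫ b = ab) {A B : Over S₃} {s φ : A ⟶ B}
    (hq : HasQuot a ((Over.pullback b).map s) ((Over.pullback b).map φ)) : HasQuot ab s φ := by
  obtain ⟨Q, q, h1, h2, h3, h4⟩ := hq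
  let σ := cmp h
  have : IsIso ((σ.inv.app B).left) := inferInstanceAs (IsIso ((Over.forget _).map (σ.inv.app B)))
  refine ⟨Q, σ.inv.app B ≫ q, ?_, ?_, ?_, ?_⟩
  · rw [Over.comp_left]; infer_instance
  · rw [Over.comp_left]; infer_instance
  · rw [Over.comp_left]; infer_instance
  · refine h4.of_iso (σ.app A) (σ.app B) (σ.app B) (Iso.refl _) ?_ ?_ ?_ ?_
    · exact σ.hom.naturality s
    · exact σ.hom.naturality φ
    · simp [σ]
    · simp [σ]

theorem prop_map_left_stage (P : MorphismProperty Scheme.{u}) [P.IsStableUnderBaseChange] [P.RespectsIso]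
    {k l m : I} (g : m ⟶ l) (φ : l ⟶ k) {B Q : Over (D.obj k)} (q : B ⟶ Q)
    (h : P ((Over.pullback (D.map φ)).map q).left) : P ((Over.pullback (D.map (g ≫ φ))).map q).left := by
  let σ := cmp (D.map_comp g φ).symm
  have h' : P ((Over.pullback (D.map g)).map ((Over.pullback (D.map φ)).map q)).left :=
    MorphismProperty.of_isPullback (isPullback_map_left (D.map g) _) h
  exact (MorphismProperty.arrow_mk_iso_iff P (Arrow.isoMk ((Over.forget _).mapIso (σ.app B))
    ((Over.forget _).mapIso (σ.app Q)) (congrArg (fun m => m.left) (σ.hom.naturality q)).symm)).1 h'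

set_option maxHeartbeats 2000000 in
include hc in
theorem exists_hasQuot {j : I} {A B : Over (D.obj j)}
    [LocallyOfFinitePresentation A.hom] [QuasiCompact A.hom] [QuasiSeparated A.hom]
    [LocallyOfFinitePresentation B.hom] [QuasiCompact B.hom] [QuasiSeparated B.hom]
    {s φ : A ⟶ B} [QuasiCompact φ.left] (h : HasQuot (c.π.app j) s φ) :
    ∃ (i : I) (f : i ⟶ j), HasQuot (D.map f) s φ := by
  obtain ⟨Q, q, hfl, hsu, hlfp, hsq⟩ := h
  let P₀ := Over.pullback (c.π.app j)
  have : QuasiCompact (P₀.map φ).left :=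
    MorphismProperty.of_isPullback (isPullback_map_left (c.π.app j) φ) inferInstance
  have : QuasiCompact q.left :=
    quasiCompact_of_isPullback_self (b := (P₀.map φ).left) (hsq.map (Over.forget _)) (q.left.isOpenMap)
  have hBl : LocallyOfFinitePresentation (Red.bc (c.π.app j) B).hom :=
    inferInstanceAs (LocallyOfFinitePresentation (pullback.snd B.hom _))
  have hBc : QuasiCompact (Red.bc (c.π.app j) B).hom := inferInstanceAs (QuasiCompact (pullback.snd B.hom _))
  have hBs : QuasiSeparated (Red.bc (c.π.app j) B).hom := inferInstanceAs (QuasiSeparated (pullback.snd B.hom _))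
  rw [← Over.w q] at hBl hBc hBs
  have : LocallyOfFinitePresentation Q.hom :=
    Groth.GitQuot.FppfSource.locallyOfFinitePresentation_of_fppf q.left Q.hom
  have : QuasiCompact Q.hom := Groth.GitQuot.FppfSource.quasiCompact_of_surjective_comp q.left Q.hom
  have : QuasiSeparated Q.hom := Groth.GitQuot.FppfSource.quasiSeparated_of_surjective_comp q.left Q.hom
  obtain ⟨j₁, ⟨M⟩⟩ := Groth.SpectralTopology.exists_stageModel (D := D) (c := c) hc Q.hom
  let Q₁ : Over (D.obj j₁) := Over.mk M.hom
  let e₁ : Q ≅ Red.bc (c.π.app j₁) Q₁ := Over.isoMk M.sq.isoPullback M.sq.isoPullback_hom_snd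
  have : QuasiCompact Q₁.hom := M.qc
  have : QuasiSeparated Q₁.hom := M.qs
  have : LocallyOfFinitePresentation Q₁.hom := M.lfp
  let l := IsCofiltered.min j₁ j
  let a : l ⟶ j₁ := IsCofiltered.minToLeft j₁ j
  let b : l ⟶ j := IsCofiltered.minToRight j₁ j
  let C := Red.bc (D.map a) Q₁
  let B₁ := Red.bc (D.map b) B
  have : LocallyOfFinitePresentation C.hom :=
    inferInstanceAs (LocallyOfFinitePresentation (pullback.snd Q₁.hom _))
  have : QuasiCompact B₁.hom := inferInstanceAs (QuasiCompact (pullback.snd B.hom _))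
  have : QuasiSeparated B₁.hom := inferInstanceAs (QuasiSeparated (pullback.snd B.hom _))
  let u : Red.bc (c.π.app l) B₁ ⟶ Red.bc (c.π.app l) C :=
    (cmp (c.w b)).hom.app B ≫ q ≫ e₁.hom ≫ (cmp (c.w a)).inv.app Q₁
  obtain ⟨k, g, ui, hui⟩ := exists_stageOf D c hc u
  let f := g ≫ b
  let Pk := Over.pullback (D.map f)
  let Qk := Red.bc (D.map g) C
  let qk : Pk.obj B ⟶ Qk := (cmp (D.map_comp g b).symm).inv.app B ≫ ui
  let P := Over.pullback (c.π.app k)
  let σ := cmp (c.w f)
  let eQ : Q ≅ P.obj Qk :=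
    e₁ ≪≫ ((cmp (c.w a)).app Q₁).symm ≪≫ ((cmp (c.w g)).app C).symm
  have hqk : P.map qk = σ.hom.app B ≫ q ≫ eQ.hom := by
    simp only [qk, P, Functor.map_comp]
    rw [hui]
    simp only [u, eQ, σ, Category.assoc, Iso.trans_hom, Iso.symm_hom, Iso.app_inv]
    erw [← reassoc_of% (cmp_assoc (c.w g) (D.map_comp g b).symm (c.w b) (c.w f) B)]
    simp only [← Functor.map_comp_assoc]
    erw [Iso.inv_hom_id_app, CategoryTheory.Functor.map_id, Category.id_comp]
  have hσ : ∀ m : A ⟶ B, P.map (Pk.map m) = σ.hom.app A ≫ P₀.map m ≫ σ.inv.app B := fun m => by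
    rw [← σ.hom.naturality_assoc, Iso.hom_inv_id_app, Category.comp_id]; rfl
  have hP : IsPullback (P.map (Pk.map s)) (P.map (Pk.map φ)) (P.map qk) (P.map qk) := by
    refine hsq.of_iso (σ.app A).symm (σ.app B).symm (σ.app B).symm eQ ?_ ?_ ?_ ?_
    · rw [hσ]; simp [P₀]
    · rw [hσ]; simp [P₀]
    · rw [hqk]; simp
    · rw [hqk]; simp
  have : QuasiCompact (Pk.obj A).hom := inferInstanceAs (QuasiCompact (pullback.snd A.hom _))
  have : QuasiSeparated (Pk.obj A).hom := inferInstanceAs (QuasiSeparated (pullback.snd A.hom _))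
  have : LocallyOfFinitePresentation (Pk.obj A).hom :=
    inferInstanceAs (LocallyOfFinitePresentation (pullback.snd A.hom _))
  have : QuasiCompact (Pk.obj B).hom := inferInstanceAs (QuasiCompact (pullback.snd B.hom _))
  have : QuasiSeparated (Pk.obj B).hom := inferInstanceAs (QuasiSeparated (pullback.snd B.hom _))
  have : LocallyOfFinitePresentation (Pk.obj B).hom :=
    inferInstanceAs (LocallyOfFinitePresentation (pullback.snd B.hom _))
  have : QuasiCompact C.hom := inferInstanceAs (QuasiCompact (pullback.snd Q₁.hom _))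
  have : QuasiSeparated C.hom := inferInstanceAs (QuasiSeparated (pullback.snd Q₁.hom _))
  have : QuasiCompact Qk.hom := inferInstanceAs (QuasiCompact (pullback.snd C.hom _))
  have : QuasiSeparated Qk.hom := inferInstanceAs (QuasiSeparated (pullback.snd C.hom _))
  have : LocallyOfFinitePresentation Qk.hom :=
    inferInstanceAs (LocallyOfFinitePresentation (pullback.snd C.hom _))
  have : LocallyOfFinitePresentation (qk.left ≫ Qk.hom) := by rw [Over.w qk]; infer_instance
  have : QuasiCompact (qk.left ≫ Qk.hom) := by rw [Over.w qk]; infer_instance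
  have : QuasiSeparated (qk.left ≫ Qk.hom) := by rw [Over.w qk]; infer_instance
  obtain ⟨_, _, _⟩ := Groth.SpectralTopology.fp_left qk.left Qk.hom
  have : IsIso eQ.hom.left := inferInstanceAs (IsIso ((Over.forget _).map eQ.hom))
  have : IsIso (σ.hom.app B).left := inferInstanceAs (IsIso ((Over.forget _).map (σ.hom.app B)))
  obtain ⟨k₁, g₁, h₁⟩ := exists_flat_map_left D c hc qk (by
    show Flat (P.map qk).left
    rw [hqk, Over.comp_left, Over.comp_left]; infer_instance)
  obtain ⟨k₂, g₂, h₂⟩ := exists_surjective_map_left D c hc qk (by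
    show Surjective (P.map qk).left
    rw [hqk, Over.comp_left, Over.comp_left]; infer_instance)
  obtain ⟨k₃, g₃, h₃⟩ := exists_map_eq D c hc (Pk.map s ≫ qk) (Pk.map φ ≫ qk) (by
    show P.map _ = P.map _
    exact (P.map_comp _ _).trans (hP.w.trans (P.map_comp _ _).symm))
  obtain ⟨m₁, s₁, t₁, hm₁⟩ := IsCofiltered.cospan g₁ g₂
  obtain ⟨m, s₂, t₂, hm⟩ := IsCofiltered.cospan (s₁ ≫ g₁) g₃
  have hfl' : Flat ((Over.pullback (D.map (s₂ ≫ s₁ ≫ g₁))).map qk).left := by
    rw [← Category.assoc]
    exact prop_map_left_stage D @Flat (s₂ ≫ s₁) g₁ qk h₁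
  have hsu' : Surjective ((Over.pullback (D.map (s₂ ≫ s₁ ≫ g₁))).map qk).left := by
    rw [hm₁, ← Category.assoc]
    exact prop_map_left_stage D @Surjective (s₂ ≫ t₁) g₂ qk h₂
  have heq := map_eq_mono D t₂ h₃
  rw [← hm] at heq
  generalize hh : s₂ ≫ s₁ ≫ g₁ = h' at hfl' hsu' heq
  let R := Over.pullback (D.map h')
  let qm := R.map qk
  let W := Limits.pullback qm qm
  let r : R.obj (Pk.obj A) ⟶ W := pullback.lift (R.map (Pk.map s)) (R.map (Pk.map φ))
    (by rw [← Functor.map_comp, ← Functor.map_comp]; exact heq)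
  let Pm := Over.pullback (c.π.app m)
  let τ := cmp (c.w h')
  have hA : IsPullback (Pm.map (R.map (Pk.map s))) (Pm.map (R.map (Pk.map φ))) (Pm.map qm) (Pm.map qm) :=
    hP.of_iso (τ.app _).symm (τ.app _).symm (τ.app _).symm (τ.app _).symm
      (τ.inv.naturality _) (τ.inv.naturality _) (τ.inv.naturality _) (τ.inv.naturality _)
  have hW := (IsPullback.of_hasPullback qm qm).map Pm
  have hr : Pm.map r = (hA.isoIsPullback _ _ hW).hom := by
    apply hW.hom_ext
    · rw [IsPullback.isoIsPullback_hom_fst, ← Functor.map_comp, pullback.lift_fst]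
    · rw [IsPullback.isoIsPullback_hom_snd, ← Functor.map_comp, pullback.lift_snd]
  have : QuasiCompact (R.obj (Pk.obj A)).hom :=
    inferInstanceAs (QuasiCompact (pullback.snd (Pk.obj A).hom _))
  have : QuasiSeparated (R.obj (Pk.obj A)).hom :=
    inferInstanceAs (QuasiSeparated (pullback.snd (Pk.obj A).hom _))
  have : LocallyOfFinitePresentation (R.obj (Pk.obj A)).hom :=
    inferInstanceAs (LocallyOfFinitePresentation (pullback.snd (Pk.obj A).hom _))
  have : QuasiCompact (R.obj (Pk.obj B)).hom :=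
    inferInstanceAs (QuasiCompact (pullback.snd (Pk.obj B).hom _))
  have : QuasiSeparated (R.obj (Pk.obj B)).hom :=
    inferInstanceAs (QuasiSeparated (pullback.snd (Pk.obj B).hom _))
  have : LocallyOfFinitePresentation (R.obj (Pk.obj B)).hom :=
    inferInstanceAs (LocallyOfFinitePresentation (pullback.snd (Pk.obj B).hom _))
  have sq' := (IsPullback.of_hasPullback qm qm).map (Over.forget _)
  have hqm := isPullback_map_left (D.map h') qk
  have : QuasiCompact qm.left := MorphismProperty.of_isPullback hqm inferInstance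
  have : QuasiSeparated qm.left := MorphismProperty.of_isPullback hqm inferInstance
  have hqml : LocallyOfFinitePresentation qm.left := MorphismProperty.of_isPullback hqm inferInstance
  have : QuasiCompact (pullback.fst qm qm).left := MorphismProperty.of_isPullback sq'.flip ‹_›
  have : QuasiSeparated (pullback.fst qm qm).left := MorphismProperty.of_isPullback sq'.flip ‹_›
  have : LocallyOfFinitePresentation (pullback.fst qm qm).left :=
    MorphismProperty.of_isPullback sq'.flip ‹_›
  have : QuasiCompact W.hom := by rw [← Over.w (pullback.fst qm qm)]; infer_instance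
  have : QuasiSeparated W.hom := by rw [← Over.w (pullback.fst qm qm)]; infer_instance
  have : LocallyOfFinitePresentation W.hom := by rw [← Over.w (pullback.fst qm qm)]; infer_instance
  obtain ⟨n, d, hd⟩ := exists_isIso_map D c hc r (by show IsIso (Pm.map r); rw [hr]; infer_instance)
  refine ⟨n, (d ≫ h') ≫ f, ?_⟩
  have hfin : HasQuot (D.map d) (R.map (Pk.map s)) (R.map (Pk.map φ)) := by
    refine ⟨_, (Over.pullback (D.map d)).map qm, ?_, ?_, ?_, ?_⟩
    · have : Flat qm.left := hfl'
      exact flat_map_left _ _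
    · have : Surjective qm.left := hsu'
      exact surjective_map_left _ _
    · exact lfp_map_left _ _
    · refine ((IsPullback.of_hasPullback qm qm).map (Over.pullback (D.map d))).of_iso
        (asIso ((Over.pullback (D.map d)).map r)).symm (Iso.refl _) (Iso.refl _) (Iso.refl _) ?_ ?_ ?_ ?_
      · rw [Iso.symm_hom, asIso_inv, IsIso.eq_inv_comp, Iso.refl_hom, Category.comp_id, ← Functor.map_comp,
          pullback.lift_fst]
      · rw [Iso.symm_hom, asIso_inv, IsIso.eq_inv_comp, Iso.refl_hom, Category.comp_id, ← Functor.map_comp,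
          pullback.lift_snd]
      · simp
      · simp
  exact HasQuot.of_map (D.map_comp (d ≫ h') f).symm (HasQuot.of_map (D.map_comp d h').symm hfin)

end Groth.GrpLim
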